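import Cfsg.Agent.H838.ThreeTr
import Cfsg.Agent.LThreeFi23.CentUu
import Cfsg.Agent.KFacts.FiTTh.Cent

/-!
# `Fi23`: a product of two different transpositions is such a product in at most three ways (helper153)
-/

set_option autoImplicit false
set_option linter.constructorNameAsVariable false
set_option maxRecDepth 100000

namespace Cfsg.Agent.H153.Pw.Fi23Fib

open Subgroup Cfsg Cfsg.Agent.Lib.PermNet Cfsg.Agent.LThreeFi23
open Cfsg.Agent.H838.Three (conjJ0 conjZ1 conjZ2)
open Cfsg.Agent.Fischer.Fi23Hom (rho)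
open Cfsg.Spor (Fi23)

theorem conj_TT (k : Fi23) {p q : ℕ} (hp : p < 31671) (hq : q < 31671) :
    T (rho k p) * T (rho k q) = k * (T p * T q) * k⁻¹ := by
  rw [T_act k hp, T_act k hq]
  group

theorem rho_inv_of {k : Fi23} {p q : ℕ} (h : rho k p = q) : rho k⁻¹ q = p := by
  rw [map_inv, Equiv.Perm.inv_eq_iff_eq, h]

theorem uu_1 : rho uu 8006 = 1 ∧ rho uu 1 = 0 := by
  rw [← uu_eq]
  obtain ⟨-, h⟩ := (chain_cons _ _ _ _).1 k_u
  obtain ⟨h1, h⟩ := (chain_cons _ _ _ _).1 h
  obtain ⟨h2, -⟩ := (chain_cons _ _ _ _).1 h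
  exact ⟨h1, h2⟩

theorem uu_pow_pt (i : ℕ) : rho (uu ^ i) 8006 = 0 ∨ rho (uu ^ i) 8006 = 1 ∨ rho (uu ^ i) 8006 = 8006 := by
  induction i with
  | zero => right; right; rw [pow_zero, map_one]; rfl
  | succ n ih =>
    rw [pow_succ', map_mul, Equiv.Perm.mul_apply]
    rcases ih with h | h | h
    · right; right; rw [h, rho_uu0]
    · left; rw [h, uu_1.2]
    · right; left; rw [h, uu_1.1]

/-- commuting transpositions do not have the product `uu` -/
theorem not_com_of_uu {q' q : ℕ} (hq' : q' < 31671) (hq : q < 31671) (h : T q' * T q = uu) : ¬ Com q' q := by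
  intro hc
  have h1 := (com_iff hq).1 hc
  apply uu_ne_one
  have h2 : uu * uu = 1 := by
    rw [← h]
    calc T q' * T q * (T q' * T q) = T q' * T q' * (T q * T q) := by
          rw [mul_assoc, ← mul_assoc (T q), ← h1]; group
      _ = 1 := by rw [T_sq hq', T_sq hq, one_mul]
  have h3 := uu_pow
  rw [pow_succ, pow_two, h2, one_mul] at h3
  exact h3

/-- **the product of `z` and `j`** -/
theorem uu_fib {q' q : ℕ} (hq' : q' < 31671) (hq : q < 31671) (h : T q' * T q = uu) : q = 0 ∨ q = 1 ∨ q = 8006 := by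
  obtain ⟨k, e1, e2⟩ := conjJ0 hq' hq (not_com_of_uu hq' hq h)
  have h1 := conj_TT k hq' hq
  rw [e1, e2, h, T0, T8006] at h1
  have h2 : k * uu * k⁻¹ = uu := h1.symm
  have h3 : k⁻¹ ∈ centralizer ({uu} : Set Fi23) := by
    rw [mem_centralizer_singleton_iff]
    calc k⁻¹ * uu = k⁻¹ * (k * uu * k⁻¹) := by rw [h2]
      _ = uu * k⁻¹ := by group
  obtain ⟨i, c, hc, e⟩ := exists_form h3
  have h4 : rho c 8006 = 8006 := (fix_pt_iff c .j).2 (mem_CC.1 hc).2
  have h5 : rho k⁻¹ 8006 = q := rho_inv_of e2
  rw [e, map_mul, Equiv.Perm.mul_apply, h4] at h5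
  rw [← h5]
  exact uu_pow_pt i

/-- the product of two transpositions that do not commute has order 3 -/
theorem cube_of_not_com {p q : ℕ} (hp : p < 31671) (hq : q < 31671) (h : ¬ Com p q) : (T p * T q) ^ 3 = 1 := by
  obtain ⟨g, hg⟩ := isConj_iff.1 (isConj_of_pair hp hq h)
  have h1 := uu_pow
  rw [← hg, conj_pow] at h1
  exact conj_eq_one_iff.1 h1

theorem eq_one_of_two_three {G : Type*} [Group G] {x : G} (h2 : x * x = 1) (h3 : x ^ 3 = 1) : x = 1 := by
  rw [pow_succ, pow_two, h2, one_mul] at h3
  exact h3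

theorem mul_self_of {G : Type*} [Group G] {x y : G} (hx : x * x = 1) (hy : y * y = 1) (h : x * y = y * x) :
    (x * y) * (x * y) = 1 := by
  calc x * y * (x * y) = x * (y * x) * y := by group
    _ = x * (x * y) * y := by rw [h]
    _ = (x * x) * (y * y) := by group
    _ = 1 := by rw [hx, hy, one_mul]

theorem eq_of_mul {G : Type*} [Group G] {x y : G} (hy : y * y = 1) (h : x * y = 1) : x = y := by
  rw [mul_eq_one_iff_eq_inv] at h
  rw [h]
  exact inv_eq_of_mul_eq_one_left hy

open Cfsg.Agent.KFacts.FiTTh.Cent (W2 hW2 Ds2) in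
/-- **the product of `z` and `a`** -/
theorem za_fib {q' q : ℕ} (hq' : q' < 31671) (hq : q < 31671) (h : T q' * T q = T 0 * T 11589) :
    q = 0 ∨ q = 11589 := by
  have ez : T 0 = el .z := T0
  have ea : T 11589 = el .a := T_a
  have ed : T 8000 = el .d := T_pt .d
  have eb : T 8004 = el .b := T_pt .b
  have hza : el .z * el .a = el .a * el .z := lt_comm .z .a (by decide)
  have hzd : el .z * el .d = el .d * el .z := lt_comm .z .d (by decide)
  have had : el .a * el .d = el .d * el .a := lt_comm .a .d (by decide)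
  have hzb : el .z * el .b = el .b * el .z := lt_comm .z .b (by decide)
  have hdb : el .d * el .b = el .b * el .d := lt_comm .d .b (by decide)
  by_contra hcon
  push Not at hcon
  obtain ⟨hn0, hna⟩ := hcon
  have hc : Com q' q := by
    by_contra hn
    have h3 := cube_of_not_com hq' hq hn
    rw [h, ez, ea] at h3
    have h4 := eq_of_mul (el_sq .a) (eq_one_of_two_three (mul_self_of (el_sq _) (el_sq _) hza) h3)
    rw [← ez, ← ea] at h4
    exact absurd (T_inj (by norm_num) (by norm_num) h4) (by norm_num)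
  have hcm := (com_iff hq).1 hc
  have hw : rho W2 q = q := by
    have e : W2 = T q' * T q := by rw [h, ez, ea]; rfl
    rw [e, fix_iff _ hq, hcm, mul_assoc, hcm]
  have c0 : Com 0 q := by
    have := hW2 q hq hw (el .z) (Or.inl rfl)
    unfold Com
    rw [ez]
    exact this
  have ca : Com 11589 q := by
    have := hW2 q hq hw (el .a) (Or.inr rfl)
    unfold Com
    rw [ea]
    exact this
  have c0a : Com 0 11589 := by
    rw [com_iff (by norm_num), ez, ea]
    exact hza
  obtain ⟨k, e1, e2, e3⟩ := conjZ2 (p := 0) (q := 11589) (r := q) (by norm_num) (by norm_num) hq c0a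
    (by norm_num) c0 ca hn0 hna
  have h1 := conj_TT k hq' hq
  have h2 := conj_TT k (p := 0) (q := 11589) (by norm_num) (by norm_num)
  rw [h, ← h2, e1, e2, e3] at h1
  set m := rho k q' with hm
  have hmlt : m < 31671 := act_lt k hq'
  have hTm : T m = el .z * el .a * el .d := by
    rw [← ez, ← ea, ← h1, ed, mul_assoc, el_sq, mul_one]
  by_cases hb : Com m 8004
  · have h3 := (com_iff (by norm_num)).1 hb
    rw [hTm, eb] at h3
    apply ncom_ab
    rw [com_iff (by norm_num), ea, eb]
    have h4 : el .z * (el .a * el .b) * el .d = el .z * (el .b * el .a) * el .d := by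
      calc el .z * (el .a * el .b) * el .d = el .z * el .a * (el .b * el .d) := by group
        _ = el .z * el .a * (el .d * el .b) := by rw [hdb]
        _ = el .z * el .a * el .d * el .b := by group
        _ = el .b * (el .z * el .a * el .d) := h3
        _ = (el .b * el .z) * el .a * el .d := by group
        _ = (el .z * el .b) * el .a * el .d := by rw [hzb]
        _ = _ := by group
    exact mul_left_cancel (mul_right_cancel h4)
  · have h3 := cube_of_not_com hmlt (by norm_num) hb
    rw [hTm, eb] at h3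
    have hab := cube_of_not_com (p := 11589) (q := 8004) (by norm_num) (by norm_num) ncom_ab
    rw [ea, eb] at hab
    have h4 : el .z * el .a * el .d * el .b = (el .z * el .d) * (el .a * el .b) := by
      calc el .z * el .a * el .d * el .b = el .z * (el .a * el .d) * el .b := by group
        _ = el .z * (el .d * el .a) * el .b := by rw [had]
        _ = _ := by group
    have h5 : Commute (el .z * el .d) (el .a * el .b) :=
      ((show Commute (el .z) (el .a) from hza).mul_right (show Commute (el .z) (el .b) from hzb)).mul_left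
        ((show Commute (el .d) (el .a) from had.symm).mul_right (show Commute (el .d) (el .b) from hdb))
    rw [h4, h5.mul_pow, hab, mul_one] at h3
    have h6 := eq_of_mul (el_sq .d) (eq_one_of_two_three (mul_self_of (el_sq _) (el_sq _) hzd) h3)
    rw [← ez, ← ed] at h6
    exact absurd (T_inj (by norm_num) (by norm_num) h6) (by norm_num)

/-- **the fibers** -/
theorem fib {p' p : ℕ} (hp' : p' < 31671) (hp : p < 31671) (hne : p ≠ p') : ∃ S : Finset ℕ, S.card ≤ 3 ∧
    ∀ q' q : ℕ, q' < 31671 → q < 31671 → T q' * T q = T p' * T p → q ∈ S := by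
  classical
  by_cases hc : Com p' p
  · obtain ⟨k, e1, e2⟩ := conjZ1 hp' hp hc hne
    refine ⟨({0, 11589} : Finset ℕ).image (fun q => rho k⁻¹ q), ?_, ?_⟩
    · exact Finset.card_image_le.trans (Finset.card_le_two.trans (by norm_num))
    · intro q' q hq' hq h
      have h1 := conj_TT k hq' hq
      have h2 := conj_TT k hp' hp
      rw [h, ← h2, e1, e2] at h1
      rw [Finset.mem_image]
      refine ⟨rho k q, ?_, rho_inv_of rfl⟩
      rcases za_fib (act_lt k hq') (act_lt k hq) h1 with h3 | h3 <;> rw [h3] <;> simp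
  · obtain ⟨k, e1, e2⟩ := conjJ0 hp' hp hc
    refine ⟨({0, 1, 8006} : Finset ℕ).image (fun q => rho k⁻¹ q), ?_, ?_⟩
    · exact Finset.card_image_le.trans Finset.card_le_three
    · intro q' q hq' hq h
      have h1 := conj_TT k hq' hq
      have h2 := conj_TT k hp' hp
      rw [h, ← h2, e1, e2, T0, T8006] at h1
      rw [Finset.mem_image]
      refine ⟨rho k q, ?_, rho_inv_of rfl⟩
      rcases uu_fib (act_lt k hq') (act_lt k hq) h1 with h3 | h3 | h3 <;> rw [h3] <;> simp

end Cfsg.Agent.H153.Pw.Fi23Fib
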