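import Cfsg.Agent.H153.Pw.Fi23NineA
import Cfsg.Agent.H153.Pw.Fi23Fib

/-!
# `Fi23`: the centralizer of an element of order 9 has at most `39191040` elements (helper153)

The cube of the element is in one of the four classes of elements of order 3; three of them are simple. In the class of
`W` the element moves at least 149 of the 324 transpositions which commute with `W` and therefore has at least 50
conjugates under the centralizer of `W`.
-/

set_option autoImplicit false
set_option linter.constructorNameAsVariable false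
set_option maxRecDepth 100000

namespace Cfsg.Agent.H153.Pw.Fi23Nine

open Subgroup Cfsg Cfsg.Agent.Lib.PermNet Cfsg.Agent.LThreeFi23 Cfsg.Agent.H838.Fi23
open Cfsg.Agent.H838.Three (classes rep y135 y324 y27)
open Cfsg.Agent.H838.Mono (CI)
open Cfsg.Agent.H935.FiThree (W w0 mF sF gws grow_spec orb_facts Fixes W_pts nine)
open Cfsg.Agent.H153.Pw.Fi23Cent (CW mem_CW lvChk lvChk_spec card_CW c0)
open Cfsg.Agent.H153.Pw.Fi23Fib (fib)
open Cfsg.Agent.Fischer.Fi23Hom (rho)
open Cfsg.Spor (Fi23)

theorem app_mul (g h : Fi23) (p : ℕ) : rho (g * h) p = rho g (rho h p) := by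
  rw [map_mul, Equiv.Perm.mul_apply]

/-! ### The 324 points -/

theorem f28 : lvChk [(w0, false), ([.c], false)] 28 8003 = true := by decide +kernel
theorem fF : Nat.beq (pattern [(w0, false)]) mF = true := by decide +kernel

theorem mem_mF {p : ℕ} : mF.testBit p = true ↔ p ∈ fixS W := by
  rw [← Nat.eq_of_beq_eq_true fF, testBit_pattern, mem_fixS]
  constructor
  · intro ⟨h1, h2⟩
    refine ⟨h1, ?_⟩
    have := h2 (w0, false) (by simp)
    change rho (elw w0) p = p
    simpa using this
  · intro ⟨h1, h2⟩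
    refine ⟨h1, ?_⟩
    intro c hc
    rw [List.mem_singleton] at hc
    subst hc
    change rho (elw w0) p = p at h2
    simp [h2]

theorem card_F : (fixS W).card = 324 := by
  have h : Nat.beq (Lib.PermNetPat.pc 15 (pattern [(w0, false)])) 324 = true := by
    rw [(lvChk_spec c0).1]
    exact Nat.beq_refl 324
  exact fixS_elw h

theorem gws_CW : ∀ w ∈ gws, elw w ∈ CW := by
  intro w hw
  have key : ∀ l : List Lt, elw (l ++ w0) = elw (w0 ++ l) → elw l ∈ CW := by
    intro l h
    rw [elw_append, elw_append] at h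
    exact mem_CW.2 h
  simp only [gws, List.mem_cons, List.not_mem_nil, or_false] at hw
  rcases hw with rfl | rfl | rfl | rfl | rfl | rfl
  · exact key _ H935.FiThree.a_w0
  · exact key _ H935.FiThree.b_w0
  · exact key _ H935.FiThree.c_w0
  · exact key _ H935.FiThree.u1_w0
  · exact key _ H935.FiThree.u2_w0
  · exact key _ H935.FiThree.pp_w0

theorem trans_F {p : ℕ} (hp : p ∈ fixS W) : ∃ h ∈ CW, rho h 8003 = p := by
  rw [← mem_mF] at hp
  have ha : elw [.a] ∈ CW := gws_CW _ (by simp [gws])
  have hb : elw [.b] ∈ CW := gws_CW _ (by simp [gws])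
  have hc : elw [.c] ∈ CW := gws_CW _ (by simp [gws])
  have hu1 : elw H935.FiThree.u1 ∈ CW := gws_CW _ (by simp [gws])
  have hu2 : elw H935.FiThree.u2 ∈ CW := gws_CW _ (by simp [gws])
  have hpp : elw H935.FiThree.pp ∈ CW := gws_CW _ (by simp [gws])
  refine grow_spec (s := sF) (x := 8003) ?_ ?_ p hp
  · intro w hw
    simp only [sF, List.mem_cons, List.not_mem_nil, or_false] at hw
    rcases hw with rfl | rfl | rfl | rfl | rfl | rfl | rfl | rfl | rfl | rfl | rfl | rfl | rfl | rfl | rfl |
      rfl | rfl <;> assumption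
  · intro p hp
    change (2 ^ 8003).testBit p = true at hp
    rw [Nat.testBit_two_pow] at hp
    exact ⟨1, CW.one_mem, by rw [map_one]; simpa using hp⟩

theorem CW_F {g : Fi23} (hg : g ∈ CW) {q : ℕ} (hq : q ∈ fixS W) : rho g q ∈ fixS W := by
  rw [mem_fixS] at hq ⊢
  refine ⟨act_lt g hq.1, ?_⟩
  rw [← app_mul, ← mem_CW.1 hg, app_mul, hq.2]

open Classical in
theorem com_c : ((fixS W).filter (fun q => Com 8003 q)).card = 28 := by
  have h := Lib.PermNetPat.card_filter_testBit 15 (pattern [(w0, false), ([.c], false)])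
  rw [(lvChk_spec f28).1] at h
  rw [← h]
  refine congrArg Finset.card ?_
  ext q
  rw [Finset.mem_filter, mem_fixS, Finset.mem_filter, Finset.mem_range, testBit_pattern]
  have e : Com 8003 q ↔ rho (elw [.c]) q = q := by rw [elw_one]; exact com_pt_iff .c q
  constructor
  · intro ⟨⟨h1, h2⟩, h3⟩
    refine ⟨h1.trans (by norm_num), h1, ?_⟩
    intro c hc
    simp only [List.mem_cons, List.not_mem_nil, or_false] at hc
    rcases hc with rfl | rfl
    · change rho (elw w0) q = q at h2
      simp [h2]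
    · simp [e.1 h3]
  · intro ⟨_, h1, h2⟩
    have a1 := h2 (w0, false) (by simp)
    have a2 := h2 ([.c], false) (by simp)
    refine ⟨⟨h1, ?_⟩, e.2 (by simpa using a2)⟩
    change rho (elw w0) q = q
    simpa using a1

open Classical in
theorem com_v {v : ℕ} (hv : v ∈ fixS W) : ((fixS W).filter (fun q => Com v q)).card ≤ 28 := by
  obtain ⟨h, hh, rfl⟩ := trans_F hv
  rw [← com_c]
  refine Finset.card_le_card_of_injOn (fun q => rho h⁻¹ q) ?_ ?_
  · intro q hq
    rw [Finset.mem_coe, Finset.mem_filter] at hq ⊢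
    refine ⟨CW_F (inv_mem hh) hq.1, ?_⟩
    rw [← com_act h (p := 8003) (by norm_num), ← app_mul, mul_inv_cancel, map_one]
    exact hq.2
  · intro q _ r _ e
    exact (rho h⁻¹).injective e

/-! ### Conjugates -/

theorem card_orbit_le {G : Type*} [Group G] [Finite G] {K : Subgroup G} {s : G}
    (hC : centralizer ({s} : Set G) ≤ K) (D : Finset G) (hD : ∀ x ∈ D, ∃ c ∈ K, c * s * c⁻¹ = x) :
    D.card * Nat.card ↥(centralizer ({s} : Set G)) ≤ Nat.card ↥K := by
  classical
  choose! c hcK hc using hD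
  let φ : (↥D × ↥(centralizer ({s} : Set G))) → ↥K :=
    fun x => ⟨c x.1 * x.2.1, K.mul_mem (hcK x.1 x.1.2) (hC x.2.2)⟩
  have hφ : Function.Injective φ := by
    rintro ⟨x, a⟩ ⟨y, b⟩ h
    have h1 : c x * a.1 = c y * b.1 := congrArg Subtype.val h
    have ha := mem_centralizer_singleton_iff.1 a.2
    have hb := mem_centralizer_singleton_iff.1 b.2
    have e : ∀ (z : ↥D) (a : G), a * s = s * a → (c z * a) * s * (c z * a)⁻¹ = z.1 := by
      intro z a ha
      calc (c z * a) * s * (c z * a)⁻¹ = c z * (a * s) * a⁻¹ * (c z)⁻¹ := by group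
        _ = c z * (s * a) * a⁻¹ * (c z)⁻¹ := by rw [ha]
        _ = c z * s * (c z)⁻¹ := by group
        _ = z.1 := hc z.1 z.2
    have h2 : x = y := by
      apply Subtype.ext
      rw [← e x a.1 ha, ← e y b.1 hb, h1]
    subst h2
    have h3 : a = b := Subtype.ext (mul_left_cancel h1)
    rw [h3]
  have h := Nat.card_le_card_of_injective φ hφ
  rwa [Nat.card_prod, Nat.card_eq_fintype_card, Fintype.card_coe] at h

/-! ### The class of `W` -/

section
variable {s : Fi23} (hs : s ^ 3 = W)
include hs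

theorem s_CW : s ∈ CW := by
  rw [mem_CW, ← hs]
  exact ((Commute.refl s).pow_right 3).eq

theorem exists_moved : ∃ b ∈ fixS W, rho s b ≠ b := by
  by_contra hcon
  push Not at hcon
  have hfix : ∀ p ∈ nine, rho s p = p := by
    intro p hp
    exact hcon p (mem_mF.1 (orb_facts.2.2.2.2.2 p hp))
  have hF : Fixes s := by
    constructor <;> exact hfix _ (by simp [nine])
  have hc : ∀ q, rho s (rho W q) = rho W (rho s q) := by
    intro q
    rw [← app_mul, mem_CW.1 (s_CW hs), app_mul]
  have h3 : rho s (rho s (rho s 0)) = 8006 := by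
    rw [← app_mul, ← app_mul, show s * s * s = W by rw [← hs, pow_succ, pow_two]]
    exact W_pts.1
  obtain ⟨w1, w2, w3, -⟩ := W_pts
  have a1 := hF.act_z (p := 0) (by simp)
  have e1 : rho s 8006 = rho W (rho s 0) := by rw [← hc, w1]
  have e2 : rho s 1 = rho W (rho W (rho s 0)) := by rw [← e1, ← hc, w2]
  simp only [List.mem_cons, List.not_mem_nil, or_false] at a1
  rcases a1 with a1 | a1 | a1
  · rw [a1, a1, a1] at h3
    exact absurd h3 (by norm_num)
  · rw [a1, w3, w1] at e2
    rw [a1, w3] at e1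
    rw [a1, e2, e1] at h3
    exact absurd h3 (by norm_num)
  · rw [a1, w2] at e1
    rw [a1, w2, w3] at e2
    rw [a1, e1, e2] at h3
    exact absurd h3 (by norm_num)

/-- the moved points -/
noncomputable def mv (s : Fi23) : Finset ℕ := (fixS W).filter fun q => rho s q ≠ q

omit hs in
theorem mem_mv {q : ℕ} : q ∈ mv s ↔ q ∈ fixS W ∧ rho s q ≠ q := by
  unfold mv
  rw [Finset.mem_filter]

theorem mv_card : 149 ≤ (mv s).card := by
  classical
  obtain ⟨b, hb, hbm⟩ := exists_moved hs
  have hblt : b < 31671 := (mem_fixS.1 hb).1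
  set Φ := (fixS W).filter fun q => rho s q = q with hΦ
  have h1 : Φ.card + (mv s).card = 324 := by
    rw [← card_F]
    exact Finset.card_filter_add_card_filter_not (s := fixS W) (fun q => rho s q = q)
  have h2 : (Φ.filter fun q => Com b q).card + (Φ.filter fun q => ¬ Com b q).card = Φ.card :=
    Finset.card_filter_add_card_filter_not _
  have h3 : (Φ.filter fun q => Com b q).card ≤ 27 := by
    have h4 : Φ.filter (fun q => Com b q) ⊆ ((fixS W).filter (fun q => Com b q)).erase b := by
      intro q hq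
      rw [Finset.mem_filter, hΦ, Finset.mem_filter] at hq
      rw [Finset.mem_erase, Finset.mem_filter]
      refine ⟨?_, hq.1.1, hq.2⟩
      rintro rfl
      exact hbm hq.1.2
    have h5 := Finset.card_le_card h4
    have h7 : (((fixS W).filter (fun q => Com b q)).erase b).card = ((fixS W).filter (fun q => Com b q)).card - 1 :=
      Finset.card_erase_of_mem (Finset.mem_filter.2 ⟨hb, com_self hblt⟩)
    rw [h7] at h5
    have h6 : ((fixS W).filter (fun q => Com b q)).card ≤ 28 := com_v hb
    omega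
  have h4 : (Φ.filter fun q => ¬ Com b q).card ≤ ((mv s).erase b).card := by
    refine Finset.card_le_card_of_injOn (fun v => rho (T v) b) ?_ ?_
    · intro v hv
      rw [Finset.mem_coe, Finset.mem_filter, hΦ, Finset.mem_filter, mem_fixS] at hv
      obtain ⟨⟨⟨hv1, hv2⟩, hv3⟩, hv4⟩ := hv
      have hTW := (fix_iff W hv1).1 hv2
      have hTs := (fix_iff s hv1).1 hv3
      rw [Finset.mem_coe, Finset.mem_erase, mem_mv]
      refine ⟨?_, CW_F (mem_CW.2 hTW.symm) hb, ?_⟩
      · intro h
        exact hv4 ((com_comm hv1 hblt).1 h)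
      · change rho s (rho (T v) b) ≠ rho (T v) b
        rw [← app_mul, hTs, app_mul]
        intro h
        exact hbm ((rho (T v)).injective h)
    · intro v hv v' hv' h
      rw [Finset.mem_coe, Finset.mem_filter, hΦ, Finset.mem_filter, mem_fixS] at hv hv'
      have key : ∀ u : ℕ, u < 31671 → ¬ Com b u → rho (T u) b = rho (T b) u := by
        intro u hu hn
        apply T_inj (act_lt _ hblt) (act_lt _ hu)
        rw [T_act _ hblt, T_act _ hu]
        have h1 := braid hblt hu hn
        have e1 : (T u)⁻¹ = T u := inv_eq_of_mul_eq_one_left (T_sq hu)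
        have e2 : (T b)⁻¹ = T b := inv_eq_of_mul_eq_one_left (T_sq hblt)
        rw [e1, e2, h1]
      change rho (T v) b = rho (T v') b at h
      rw [key v hv.1.1.1 hv.2, key v' hv'.1.1.1 hv'.2] at h
      exact (rho (T b)).injective h
  have h5 : ((mv s).erase b).card = (mv s).card - 1 := Finset.card_erase_of_mem (mem_mv.2 ⟨hb, hbm⟩)
  have h6 : 0 < (mv s).card := Finset.card_pos.2 ⟨b, mem_mv.2 ⟨hb, hbm⟩⟩
  omega

theorem cube_W : Nat.card ↥(centralizer ({s} : Set Fi23)) ≤ 39191040 := by
  classical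
  have hT : ∀ p < 31671, T (rho s⁻¹ p) = s⁻¹ * T p * s := by
    intro p hp
    rw [T_act _ hp, inv_inv]
  set f : ℕ → Fi23 := fun p => s⁻¹ * T p * s * T p with hf
  have h1 : (mv s).card ≤ 3 * ((mv s).image f).card := by
    refine Finset.card_le_mul_card_image _ 3 ?_
    intro a ha
    rw [Finset.mem_image] at ha
    obtain ⟨p, hp, rfl⟩ := ha
    rw [mem_mv, mem_fixS] at hp
    obtain ⟨⟨hp1, -⟩, hp2⟩ := hp
    obtain ⟨S, hS, hS2⟩ := fib (p' := rho s⁻¹ p) (p := p) (act_lt _ hp1) hp1 (by
      intro h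
      apply hp2
      conv_lhs => rw [h]
      rw [← app_mul, mul_inv_cancel, map_one]
      rfl)
    refine (Finset.card_le_card ?_).trans hS
    intro q hq
    rw [Finset.mem_filter, mem_mv, mem_fixS] at hq
    refine hS2 (rho s⁻¹ q) q (act_lt _ hq.1.1.1) hq.1.1.1 ?_
    rw [hT q hq.1.1.1, hT p hp1]
    exact hq.2
  have h2 := mv_card hs
  have h3 : 50 ≤ (((mv s).image f).image fun g => s * g).card := by
    rw [Finset.card_image_of_injective _ (mul_right_injective s)]
    omega
  have hC : centralizer ({s} : Set Fi23) ≤ CW := by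
    have := cent_le_pow s 3
    rw [hs] at this
    exact this
  have h4 := card_orbit_le hC (((mv s).image f).image fun g => s * g) (by
    intro x hx
    rw [Finset.mem_image] at hx
    obtain ⟨g, hg, rfl⟩ := hx
    rw [Finset.mem_image] at hg
    obtain ⟨p, hp, rfl⟩ := hg
    rw [mem_mv, mem_fixS] at hp
    obtain ⟨⟨hp1, hp3⟩, hp2⟩ := hp
    refine ⟨T p, mem_CW.2 ((fix_iff W hp1).1 hp3).symm, ?_⟩
    have e1 : (T p)⁻¹ = T p := inv_eq_of_mul_eq_one_left (T_sq hp1)
    rw [e1, hf]
    group)
  have h5 := card_CW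
  have h6 : 50 * Nat.card ↥(centralizer ({s} : Set Fi23)) ≤ 1693052928 :=
    (Nat.mul_le_mul_right _ h3).trans (h4.trans h5)
  omega

end

theorem k_e : eqM ([.e] ++ w0) (y324 ++ [.e]) = true := by decide +kernel

theorem rep2 : elw [.e] * W * (elw [.e])⁻¹ = rep 2 := by
  have h := elw_eq k_e
  rw [elw_append, elw_append] at h
  rw [mul_inv_eq_iff_eq_mul]
  exact h

/-- **the centralizer of an element of order 9 of `Fi23`** -/
theorem nine_le {s : Fi23} (hs : orderOf s = 9) : Nat.card ↥(centralizer ({s} : Set Fi23)) ≤ 39191040 := by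
  have h9 : (s ^ 3) ^ 3 = 1 := by
    rw [← pow_mul]
    exact orderOf_dvd_iff_pow_eq_one.1 (by rw [hs])
  have h3 : s ^ 3 ≠ 1 := by
    intro h
    have := orderOf_dvd_of_pow_eq_one h
    rw [hs] at this
    revert this
    decide
  obtain ⟨k, g, hg⟩ := classes h9 h3
  have ht : ∃ t : Fi23, t ^ 3 = rep k ∧
      Nat.card ↥(centralizer ({t} : Set Fi23)) = Nat.card ↥(centralizer ({s} : Set Fi23)) := by
    rcases hg with hg | hg
    · exact ⟨g * s * g⁻¹, by rw [conj_pow, hg], card_cent_conj g s⟩
    · refine ⟨(g * s * g⁻¹)⁻¹, by rw [inv_pow, conj_pow, hg, inv_inv], ?_⟩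
      rw [cent_inv, card_cent_conj]
  obtain ⟨t, ht, e⟩ := ht
  rw [← e]
  have hle : Nat.card ↥(centralizer ({t} : Set Fi23)) ≤ Nat.card ↥(centralizer ({rep k} : Set Fi23)) := by
    rw [← ht]
    exact Subgroup.card_le_of_le (cent_le_pow t 3)
  fin_cases k
  · exact (not_rep0 ht).elim
  · exact hle.trans (card_rep1.trans (by norm_num))
  · have h1 : ((elw [.e])⁻¹ * t * elw [.e]) ^ 3 = W := by
      have h2 : (elw [.e])⁻¹ * t * elw [.e] = (elw [.e])⁻¹ * t * ((elw [.e])⁻¹)⁻¹ := by rw [inv_inv]
      rw [h2, conj_pow, inv_inv, show t ^ 3 = rep 2 from ht, ← rep2]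
      group
    have h2 := cube_W h1
    have h3 := card_cent_conj (elw [.e])⁻¹ t
    rw [inv_inv] at h3
    rwa [h3] at h2
  · exact hle.trans (card_rep3.le.trans (by norm_num))

end Cfsg.Agent.H153.Pw.Fi23Nine
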