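import Cfsg.Agent.H838.Nm
import Cfsg.Agent.H935.FiThree.Max

/-!
# `Fi23`: the centralizer of `W = (z j)(f e)(h i)` has at most `1693052928` elements (helper153)

Six levels of a stabilizer chain; the orbits are bounded by patterns.
-/

set_option autoImplicit false
set_option linter.constructorNameAsVariable false
set_option maxRecDepth 100000

namespace Cfsg.Agent.H153.Pw.Fi23Cent

open Subgroup Cfsg Cfsg.Agent.Lib.PermNet Cfsg.Agent.LThreeFi23 Cfsg.Agent.H838.Fi23
open Cfsg.Agent.H838.Nm (comm_app comm_flat tw elw_tw card_orb stab_cons)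
open Cfsg.Agent.H838.Three (stab mem_stab)
open Cfsg.Agent.H935.FiThree (W w0)
open Cfsg.Agent.Fischer.Fi23Hom (rho)
open Cfsg.Spor (Fi23)

/-- the centralizer -/
def CW : Subgroup Fi23 := centralizer {W}

theorem mem_CW {g : Fi23} : g ∈ CW ↔ g * W = W * g := by
  unfold CW
  rw [mem_centralizer_singleton_iff]

/-- the words commute with the element -/
def Cm (w : Fi23) (u : List Lt) : Prop := w * elw u = elw u * w

theorem Cm.app {w : Fi23} {u v : List Lt} (h : Cm w u) (h' : Cm w v) : Cm w (u ++ v) := comm_app h h'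

theorem Cm.rev {w : Fi23} {u : List Lt} (h : Cm w u) : Cm w u.reverse := by
  unfold Cm
  rw [elw_reverse]
  exact (show Commute w (elw u) from h).inv_right

theorem Cm.pt {w : Fi23} {x : Lt} (h : rho w (pt x) = pt x) : Cm w [x] := by
  unfold Cm
  rw [elw_one]
  exact (fix_pt_iff w x).1 h

theorem Cm.tw {w : Fi23} {u : List Lt} {p : ℕ} (hu : Nat.beq (ptw u 0) p = true) (hp : p < 31671)
    (h : rho w p = p) : Cm w (tw u) := by
  unfold Cm
  have h1 : rho (elw u) 0 = p := by
    rw [← ptw_eq]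
    exact Nat.eq_of_beq_eq_true hu
  rw [elw_tw h1]
  exact (fix_iff w hp).1 h

theorem Cm.flat {w : Fi23} {L : List (List Lt)} (h : ∀ u ∈ L, Cm w u) : Cm w L.flatten := comm_flat h

theorem fix_of {w : Fi23} {L : List (List Lt)} {q p : ℕ} (h : ∀ u ∈ L, Cm w u) (hq : rho w q = q)
    (hp : Nat.beq (ptw L.flatten q) p = true) : rho w p = p := by
  have h1 : rho (elw L.flatten) q = p := by
    rw [← ptw_eq]
    exact Nat.eq_of_beq_eq_true hp
  have h2 : w * elw L.flatten = elw L.flatten * w := Cm.flat h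
  rw [← h1, ← Equiv.Perm.mul_apply, ← map_mul, h2, map_mul, Equiv.Perm.mul_apply, hq]

/-- the number of points of a pattern, and one of its points -/
noncomputable def lvChk (cs : List (List Lt × Bool)) (n b : ℕ) : Bool :=
  seqB (pattern cs) fun m => and (Nat.beq (Lib.PermNetPat.pc 15 m) n) (tb m b)

theorem lvChk_spec {cs : List (List Lt × Bool)} {n b : ℕ} (h : lvChk cs n b = true) :
    Lib.PermNetPat.pc 15 (pattern cs) = n ∧ (pattern cs).testBit b = true := by
  unfold lvChk at h
  rw [seqB_eq, Bool.and_eq_true, tb_eq] at h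
  exact ⟨Nat.eq_of_beq_eq_true h.1, h.2⟩

/-- one level -/
theorem lvl {fx : List ℕ} {b n : ℕ} {cs : List (List Lt × Bool)} (hc : lvChk cs n b = true)
    (hcs : ∀ w ∈ CW ⊓ stab fx, ∀ c ∈ cs, Cm w c.1) :
    Nat.card ↥(CW ⊓ stab fx) ≤ n * Nat.card ↥(CW ⊓ stab (b :: fx)) := by
  classical
  obtain ⟨h1, h2⟩ := lvChk_spec hc
  have hb := ((testBit_pattern cs b).1 h2).1
  have hsub : ∀ w ∈ CW ⊓ stab fx, (pattern cs).testBit (rho w b) = true := by
    intro w hw
    rw [testBit_pattern] at h2 ⊢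
    exact ⟨act_lt w h2.1, h2.2.act (hcs w hw)⟩
  have h3 := card_orb (H := CW ⊓ stab fx) (b := b)
    (S := (Finset.range 31671).filter (fun q => ∃ g ∈ CW ⊓ stab fx, rho g b = q)) (by
      intro q
      rw [Finset.mem_filter, Finset.mem_range]
      constructor
      · intro h
        exact h.2
      · rintro ⟨g, hg1, hg⟩
        exact ⟨hg ▸ act_lt g hb, g, hg1, hg⟩)
  rw [h3, inf_assoc, stab_cons]
  refine Nat.mul_le_mul_right _ ?_
  rw [← h1, ← Lib.PermNetPat.card_filter_testBit]
  refine Finset.card_le_card ?_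
  intro q hq
  rw [Finset.mem_filter, Finset.mem_range] at hq ⊢
  obtain ⟨hq1, g, hg, hq2⟩ := hq
  refine ⟨hq1.trans (by norm_num), ?_⟩
  rw [← hq2]
  exact hsub g hg

/-! ### The data -/

/-- a path from `0` to `5041` -/
def u5041 : List Lt := [.g, .f, .c, .d, .e, .b, .c, .d, .h, .i, .g, .e, .f, .d, .e, .c, .d, .h, .a, .b, .c, .d, .e, .f,
  .g, .j]

/-- a path from `0` to `4571` -/
def u4571 : List Lt := [.g, .j, .z, .f, .e, .c, .d, .h, .i, .f, .d, .e, .b, .c, .d, .h, .a, .b, .c, .d, .e, .f, .g, .j]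

theorem c0 : lvChk [(w0, false)] 324 11589 = true := by decide +kernel
theorem c1 : lvChk [(w0, false), ([.a], false)] 28 8003 = true := by decide +kernel
theorem c2 : lvChk [(w0, false), ([.a], true), ([.c], true)] 288 8004 = true := by decide +kernel
theorem c3 : lvChk [(w0 ++ [.a, .b], false)] 27 5041 = true := by decide +kernel
theorem c4 : lvChk [([.a] ++ (tw u5041 ++ (w0 ++ tw u5041)), false), ([.c], false)] 12 7999 = true := by decide +kernel
theorem c5 : lvChk [(w0.reverse ++ ([.b] ++ (tw u5041 ++ [.h])), false), ([.c], true)] 2 4571 = true := by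
  decide +kernel

theorem k5041 : Nat.beq (ptw u5041 0) 5041 = true := by decide +kernel
theorem k4571 : Nat.beq (ptw u4571 0) 4571 = true := by decide +kernel

theorem p_i : Nat.beq (ptw [w0].flatten 7999) 8007 = true := by decide +kernel
theorem p_d : Nat.beq (ptw [tw u5041, [.c], tw u4571, [.i], [.c], tw u5041, [.b], [.c]].flatten 4571) 8000 = true := by
  decide +kernel
theorem p_e : Nat.beq (ptw [[.d], w0.reverse, [.d]].flatten 7999) 8001 = true := by decide +kernel
theorem p_f : Nat.beq (ptw [w0.reverse].flatten 8001) 8002 = true := by decide +kernel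
theorem p_j : Nat.beq (ptw [tw u4571, [.e], [.h], w0.reverse].flatten 4571) 8006 = true := by decide +kernel
theorem p_z : Nat.beq (ptw [w0.reverse].flatten 8006) 0 = true := by decide +kernel
theorem p_g : Nat.beq (ptw [w0.reverse, tw u4571, tw u5041, [.b], [.c]].flatten 8000) 8005 = true := by
  decide +kernel


/-! ### The levels -/

theorem cw {fx : List ℕ} {w : Fi23} (hw : w ∈ CW ⊓ stab fx) : Cm w w0 := mem_CW.1 hw.1

theorem fxd {fx : List ℕ} {w : Fi23} (hw : w ∈ CW ⊓ stab fx) {p : ℕ} (hp : p ∈ fx) : rho w p = p := hw.2 p hp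

theorem L0 : Nat.card ↥(CW ⊓ stab []) ≤ 324 * Nat.card ↥(CW ⊓ stab [11589]) := by
  refine lvl c0 ?_
  intro w hw c hc
  simp only [List.mem_cons, List.not_mem_nil, or_false] at hc
  rcases hc with rfl
  exact cw hw

theorem L1 : Nat.card ↥(CW ⊓ stab [11589]) ≤ 28 * Nat.card ↥(CW ⊓ stab [8003, 11589]) := by
  refine lvl c1 ?_
  intro w hw c hc
  have ha : Cm w [.a] := Cm.pt (fxd hw (by simp [pt]))
  simp only [List.mem_cons, List.not_mem_nil, or_false] at hc
  rcases hc with rfl | rfl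
  · exact cw hw
  · exact ha

theorem L2 : Nat.card ↥(CW ⊓ stab [8003, 11589]) ≤ 288 * Nat.card ↥(CW ⊓ stab [8004, 8003, 11589]) := by
  refine lvl c2 ?_
  intro w hw c hc
  have ha : Cm w [.a] := Cm.pt (fxd hw (by simp [pt]))
  have hcc : Cm w [.c] := Cm.pt (fxd hw (by simp [pt]))
  simp only [List.mem_cons, List.not_mem_nil, or_false] at hc
  rcases hc with rfl | rfl | rfl
  · exact cw hw
  · exact ha
  · exact hcc

theorem L3 : Nat.card ↥(CW ⊓ stab [8004, 8003, 11589]) ≤ 27 * Nat.card ↥(CW ⊓ stab [5041, 8004, 8003, 11589]) := by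
  refine lvl c3 ?_
  intro w hw c hc
  have ha : Cm w [.a] := Cm.pt (fxd hw (by simp [pt]))
  have hb : Cm w [.b] := Cm.pt (fxd hw (by simp [pt]))
  simp only [List.mem_cons, List.not_mem_nil, or_false] at hc
  rcases hc with rfl
  exact (cw hw).app (ha.app hb)

theorem L4 : Nat.card ↥(CW ⊓ stab [5041, 8004, 8003, 11589]) ≤
    12 * Nat.card ↥(CW ⊓ stab [7999, 5041, 8004, 8003, 11589]) := by
  refine lvl c4 ?_
  intro w hw c hc
  have ha : Cm w [.a] := Cm.pt (fxd hw (by simp [pt]))
  have hcc : Cm w [.c] := Cm.pt (fxd hw (by simp [pt]))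
  have ht : Cm w (tw u5041) := Cm.tw k5041 (by norm_num) (fxd hw (by simp))
  simp only [List.mem_cons, List.not_mem_nil, or_false] at hc
  rcases hc with rfl | rfl
  · exact ha.app (ht.app ((cw hw).app ht))
  · exact hcc

theorem L5 : Nat.card ↥(CW ⊓ stab [7999, 5041, 8004, 8003, 11589]) ≤
    2 * Nat.card ↥(CW ⊓ stab [4571, 7999, 5041, 8004, 8003, 11589]) := by
  refine lvl c5 ?_
  intro w hw c hc
  have hb : Cm w [.b] := Cm.pt (fxd hw (by simp [pt]))
  have hcc : Cm w [.c] := Cm.pt (fxd hw (by simp [pt]))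
  have hh : Cm w [.h] := Cm.pt (fxd hw (by simp [pt]))
  have ht : Cm w (tw u5041) := Cm.tw k5041 (by norm_num) (fxd hw (by simp))
  simp only [List.mem_cons, List.not_mem_nil, or_false] at hc
  rcases hc with rfl | rfl
  · exact (cw hw).rev.app (hb.app (ht.app hh))
  · exact hcc

theorem c1l {P : List Lt → Prop} {a : List Lt} (ha : P a) : ∀ u ∈ [a], P u := by
  intro u hu
  rw [List.mem_singleton] at hu
  rw [hu]
  exact ha

theorem cns {P : List Lt → Prop} {a : List Lt} {L : List (List Lt)} (ha : P a) (h : ∀ u ∈ L, P u) :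
    ∀ u ∈ a :: L, P u := List.forall_mem_cons.2 ⟨ha, h⟩

theorem L6 : CW ⊓ stab [4571, 7999, 5041, 8004, 8003, 11589] = ⊥ := by
  rw [eq_bot_iff]
  intro w hw
  rw [mem_bot]
  have hb : Cm w [.b] := Cm.pt (fxd hw (by simp [pt]))
  have hcc : Cm w [.c] := Cm.pt (fxd hw (by simp [pt]))
  have hh : Cm w [.h] := Cm.pt (fxd hw (by simp [pt]))
  have ht : Cm w (tw u5041) := Cm.tw k5041 (by norm_num) (fxd hw (by simp))
  have ht' : Cm w (tw u4571) := Cm.tw k4571 (by norm_num) (fxd hw (by simp))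
  have hv : Cm w w0.reverse := (cw hw).rev
  have f7999 : rho w 7999 = 7999 := fxd hw (by simp)
  have f4571 : rho w 4571 = 4571 := fxd hw (by simp)
  have fi : rho w 8007 = 8007 := fix_of (c1l (cw hw)) f7999 p_i
  have hi : Cm w [.i] := Cm.pt fi
  have fd : rho w 8000 = 8000 := fix_of (cns ht (cns hcc (cns ht' (cns hi (cns hcc (cns ht (cns hb (c1l hcc)))))))) f4571 p_d
  have hd : Cm w [.d] := Cm.pt fd
  have fe : rho w 8001 = 8001 := fix_of (cns hd (cns hv (c1l hd))) f7999 p_e
  have he : Cm w [.e] := Cm.pt fe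
  have ff : rho w 8002 = 8002 := fix_of (c1l hv) fe p_f
  have fj : rho w 8006 = 8006 := fix_of (cns ht' (cns he (cns hh (c1l hv)))) f4571 p_j
  have fz : rho w 0 = 0 := fix_of (c1l hv) fj p_z
  have fg : rho w 8005 = 8005 := fix_of (cns hv (cns ht' (cns ht (cns hb (c1l hcc))))) fd p_g
  apply eq_one_of_eight
  intro p hp
  simp only [b8, List.mem_cons, List.not_mem_nil, or_false] at hp
  rcases hp with rfl | rfl | rfl | rfl | rfl | rfl | rfl | rfl
  · exact fz
  · exact fj
  · exact fg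
  · exact ff
  · exact fxd hw (by simp)
  · exact fxd hw (by simp)
  · exact fd
  · exact f7999

/-- **the bound** -/
theorem card_CW : Nat.card ↥CW ≤ 1693052928 := by
  have h : CW ⊓ stab [] = CW := by
    rw [inf_eq_left]
    intro g _ p hp
    simp at hp
  have h0 := L0
  have h1 := L1
  have h2 := L2
  have h3 := L3
  have h4 := L4
  have h5 := L5
  rw [L6, Subgroup.card_bot] at h5
  rw [h] at h0
  omega

end Cfsg.Agent.H153.Pw.Fi23Cent
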