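import Cfsg.Agent.H153.Pw.Fi23Cent
import Cfsg.Agent.H838.ThreeCl
import Cfsg.Agent.H837.X4

/-!
# `Fi23`: the centralizers of the classes of elements of order 3 (helper153)

* `fixN` : the number of transpositions fixed by an element;
* `card_cent_of_ci` : the centralizers of two elements conjugate up to inversion have the same order;
* `card_cent1` : the centralizer of `y135` has at most `37791360` elements.
-/

set_option autoImplicit false
set_option linter.constructorNameAsVariable false
set_option maxRecDepth 100000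

namespace Cfsg.Agent.H153.Pw.Fi23Nine

open Subgroup Cfsg Cfsg.Agent.Lib.PermNet Cfsg.Agent.LThreeFi23 Cfsg.Agent.H838.Fi23
open Cfsg.Agent.H838.Three (classes rep y135 y324 y27)
open Cfsg.Agent.H838.Mono (CI)
open Cfsg.Agent.Fischer.Fi23Hom (rho)
open Cfsg.Spor (Fi23)

/-! ### Fixed points -/

/-- the transpositions fixed by an element -/
noncomputable def fixS (x : Fi23) : Finset ℕ := (Finset.range 31671).filter fun q => rho x q = q

theorem mem_fixS {x : Fi23} {q : ℕ} : q ∈ fixS x ↔ q < 31671 ∧ rho x q = q := by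
  unfold fixS
  rw [Finset.mem_filter, Finset.mem_range]

theorem fixS_inv (x : Fi23) : fixS x⁻¹ = fixS x := by
  ext q
  rw [mem_fixS, mem_fixS, map_inv, Equiv.Perm.inv_eq_iff_eq]
  exact ⟨fun h => ⟨h.1, h.2.symm⟩, fun h => ⟨h.1, h.2.symm⟩⟩

theorem fixS_conj (g x : Fi23) : (fixS (g * x * g⁻¹)).card = (fixS x).card := by
  symm
  refine Finset.card_bij (fun q _ => rho g q) ?_ ?_ ?_
  · intro q hq
    rw [mem_fixS] at hq ⊢
    refine ⟨act_lt g hq.1, ?_⟩
    rw [← Equiv.Perm.mul_apply, ← map_mul, inv_mul_cancel_right, map_mul, Equiv.Perm.mul_apply, hq.2]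
  · intro q _ r _ h
    exact (rho g).injective h
  · intro q hq
    rw [mem_fixS] at hq
    refine ⟨rho g⁻¹ q, ?_, ?_⟩
    · rw [mem_fixS]
      refine ⟨act_lt _ hq.1, ?_⟩
      have h : rho (g⁻¹ * (g * x * g⁻¹)) q = rho g⁻¹ q := by rw [map_mul, Equiv.Perm.mul_apply, hq.2]
      rw [← Equiv.Perm.mul_apply, ← map_mul]
      rw [← h]
      congr 2
      group
    · rw [← Equiv.Perm.mul_apply, ← map_mul, mul_inv_cancel, map_one]
      rfl

theorem fixS_ci {x y : Fi23} (h : CI x y) : (fixS x).card = (fixS y).card := by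
  obtain ⟨g, h | h⟩ := h
  · rw [← h, fixS_conj]
  · rw [← fixS_inv y, ← h, fixS_conj]

/-- the number of fixed points of a word -/
theorem fixS_elw {w : List Lt} {n : ℕ} (h : Nat.beq (Lib.PermNetPat.pc 15 (pattern [(w, false)])) n = true) :
    (fixS (elw w)).card = n := by
  rw [← Nat.eq_of_beq_eq_true h, ← Lib.PermNetPat.card_filter_testBit]
  congr 1
  ext q
  rw [mem_fixS, Finset.mem_filter, Finset.mem_range, testBit_pattern]
  constructor
  · intro ⟨h1, h2⟩
    refine ⟨h1.trans (by norm_num), h1, ?_⟩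
    intro c hc
    rw [List.mem_singleton] at hc
    subst hc
    simp [h2]
  · intro ⟨_, h1, h2⟩
    refine ⟨h1, ?_⟩
    have := h2 (w, false) (by simp)
    simpa using this

theorem n_x0 : Nat.beq (Lib.PermNetPat.pc 15 (pattern [(H837.X1.x0w, false)])) 135 = true := by decide +kernel
theorem n_uu : Nat.beq (Lib.PermNetPat.pc 15 (pattern [([.z, .j], false)])) 351 = true := by decide +kernel
theorem n_324 : Nat.beq (Lib.PermNetPat.pc 15 (pattern [(y324, false)])) 324 = true := by decide +kernel
theorem n_27 : Nat.beq (Lib.PermNetPat.pc 15 (pattern [(y27, false)])) 27 = true := by decide +kernel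

/-! ### Centralizers -/

theorem card_cent_conj (g x : Fi23) :
    Nat.card ↥(centralizer ({g * x * g⁻¹} : Set Fi23)) = Nat.card ↥(centralizer ({x} : Set Fi23)) := by
  refine Nat.card_congr ⟨fun c => ⟨g⁻¹ * c.1 * g, ?_⟩, fun c => ⟨g * c.1 * g⁻¹, ?_⟩, ?_, ?_⟩
  · have h := mem_centralizer_singleton_iff.1 c.2
    rw [mem_centralizer_singleton_iff]
    calc g⁻¹ * c.1 * g * x = g⁻¹ * (c.1 * (g * x * g⁻¹)) * g := by group
      _ = g⁻¹ * (g * x * g⁻¹ * c.1) * g := by rw [h]
      _ = x * (g⁻¹ * c.1 * g) := by group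
  · have h := mem_centralizer_singleton_iff.1 c.2
    rw [mem_centralizer_singleton_iff]
    calc g * c.1 * g⁻¹ * (g * x * g⁻¹) = g * (c.1 * x) * g⁻¹ := by group
      _ = g * (x * c.1) * g⁻¹ := by rw [h]
      _ = g * x * g⁻¹ * (g * c.1 * g⁻¹) := by group
  · intro c
    apply Subtype.ext
    change g * (g⁻¹ * c.1 * g) * g⁻¹ = c.1
    group
  · intro c
    apply Subtype.ext
    change g⁻¹ * (g * c.1 * g⁻¹) * g = c.1
    group

theorem cent_inv (x : Fi23) : centralizer ({x⁻¹} : Set Fi23) = centralizer ({x} : Set Fi23) := by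
  ext c
  rw [mem_centralizer_singleton_iff, mem_centralizer_singleton_iff]
  exact ⟨fun h => by simpa using (show Commute c x⁻¹ from h).inv_right.eq,
    fun h => (show Commute c x from h).inv_right.eq⟩

theorem card_cent_of_ci {x y : Fi23} (h : CI x y) :
    Nat.card ↥(centralizer ({x} : Set Fi23)) = Nat.card ↥(centralizer ({y} : Set Fi23)) := by
  obtain ⟨g, h | h⟩ := h
  · rw [← h, card_cent_conj]
  · rw [← cent_inv y, ← h, card_cent_conj]

theorem cent_le_pow (x : Fi23) (n : ℕ) : centralizer ({x} : Set Fi23) ≤ centralizer ({x ^ n} : Set Fi23) := by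
  intro c hc
  rw [mem_centralizer_singleton_iff] at hc ⊢
  exact ((show Commute c x from hc).pow_right n).eq

/-! ### The class with 135 fixed points -/

open Cfsg.Agent.H837.X3 (x0 x0_pow gen_x0) in
theorem x0_ne1 : x0 ≠ 1 := Cfsg.Agent.H837.X3.ne_one_of_mv Cfsg.Agent.H837.X1.x0_ne

open Cfsg.Agent.H837.X3 (x0 x0_pow gen_x0) in
open Cfsg.Agent.H837.X4 (N card_N) in
theorem card_x0 : Nat.card ↥(centralizer ({x0} : Set Fi23)) ≤ 37791360 := by
  have hle : centralizer ({x0} : Set Fi23) ≤ N := by
    intro c hc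
    rw [mem_centralizer_singleton_iff] at hc
    unfold N
    rw [mem_normalizer_iff]
    intro h
    constructor
    · intro hh
      obtain ⟨m, rfl⟩ := mem_zpowers_iff.1 hh
      have h1 : c * x0 ^ m = x0 ^ m * c := ((show Commute c x0 from hc).zpow_right m).eq
      rw [h1, mul_inv_cancel_right]
      exact zpow_mem (mem_zpowers x0) m
    · intro hh
      obtain ⟨m, hm⟩ := mem_zpowers_iff.1 hh
      have h1 : c * x0 ^ m = x0 ^ m * c := ((show Commute c x0 from hc).zpow_right m).eq
      have h2 : h = x0 ^ m := by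
        calc h = c⁻¹ * (c * h * c⁻¹) * c := by group
          _ = c⁻¹ * (x0 ^ m * c) := by rw [← hm, mul_assoc]
          _ = x0 ^ m := by rw [← h1, inv_mul_cancel_left]
      rw [h2]
      exact zpow_mem (mem_zpowers x0) m
  have hne : centralizer ({x0} : Set Fi23) ≠ N := by
    intro he
    have h1 : elw (Cfsg.Agent.H837.X1.gW 12) ∈ N := by
      rw [← Cfsg.Agent.H837.X4.H_eq]
      exact Subgroup.subset_closure ⟨_, List.getElem_mem (l := Cfsg.Agent.H837.X1.G) (n := 12) (by decide), rfl⟩
    rw [← he, mem_centralizer_singleton_iff] at h1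
    have h2 := gen_x0 12 (by norm_num)
    rw [h1] at h2
    have h3 := mul_right_cancel h2
    have h4 : x0 ^ 2 = x0 := h3.symm
    rw [pow_two] at h4
    exact x0_ne1 (mul_eq_right.1 h4)
  have hd := Subgroup.card_dvd_of_le hle
  have hN := card_N
  rw [hN] at hd
  obtain ⟨k, hk⟩ := hd
  have hk1 : k ≠ 1 := by
    rintro rfl
    apply hne
    apply Subgroup.eq_of_le_of_card_ge hle
    rw [hN, hk, mul_one]
  have hk0 : k ≠ 0 := by
    rintro rfl
    omega
  have hk2 : 2 ≤ k := by omega
  have h5 : Nat.card ↥(centralizer ({x0} : Set Fi23)) * 2 ≤ 75582720 := by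
    rw [hk]
    exact Nat.mul_le_mul_left _ hk2
  omega

open Cfsg.Agent.H837.X3 (x0 x0_pow) in
theorem ci_x0 : CI x0 (rep 1) := by
  obtain ⟨k, hk⟩ := classes x0_pow x0_ne1
  have h := fixS_ci hk
  have h0 : (fixS x0).card = 135 := fixS_elw n_x0
  rw [h0] at h
  fin_cases k
  · have h1 : (fixS (rep 0)).card = 351 := by
      have h2 := fixS_elw n_uu
      rw [elw_cons, elw_cons, elw_nil, mul_one] at h2
      exact h2
    change 135 = (fixS (rep 0)).card at h
    rw [h1] at h
    exact absurd h (by norm_num)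
  · exact hk
  · have h1 : (fixS (rep 2)).card = 324 := fixS_elw n_324
    change 135 = (fixS (rep 2)).card at h
    rw [h1] at h
    exact absurd h (by norm_num)
  · have h1 : (fixS (rep 3)).card = 27 := fixS_elw n_27
    change 135 = (fixS (rep 3)).card at h
    rw [h1] at h
    exact absurd h (by norm_num)

/-- **the centralizer of the second class** -/
theorem card_rep1 : Nat.card ↥(centralizer ({rep 1} : Set Fi23)) ≤ 37791360 := by
  rw [← card_cent_of_ci ci_x0]
  exact card_x0

/-- **the centralizer of the fourth class** -/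
theorem card_rep3 : Nat.card ↥(centralizer ({rep 3} : Set Fi23)) = 944784 := Cfsg.Agent.H838.Nm.card_Cx

/-- the elements of order 9 have no cube in the first class -/
theorem not_rep0 {s : Fi23} (h : s ^ 3 = uu) : False := by
  have hs : s ∈ centralizer ({uu} : Set Fi23) := by
    rw [mem_centralizer_singleton_iff, ← h]
    exact ((Commute.refl s).pow_right 3).eq
  obtain ⟨i, c, hc, e⟩ := exists_form hs
  have h1 : c * uu = uu * c := by
    have h2 : s * uu = uu * s := mem_centralizer_singleton_iff.1 hs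
    have h3 : c = (uu ^ i)⁻¹ * s := by rw [e, inv_mul_cancel_left]
    rw [h3]
    exact (((Commute.refl uu).pow_left i).inv_left.mul_left (show Commute s uu from h2)).eq
  have h2 : Commute (uu ^ i) c := (show Commute c uu from h1).symm.pow_left i
  apply uu_notMem
  rw [← h, e, h2.mul_pow, ← pow_mul, mul_comm i 3, pow_mul, uu_pow, one_pow, one_mul]
  exact pow_mem hc 3

end Cfsg.Agent.H153.Pw.Fi23Nine
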