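import Cfsg.Agent.H838.ThreeCl
import Cfsg.Agent.H78.Pw.Base

/-!
# S2465, `Fi23`: the elements of order 3 are products of two elements of order 5 or 7 (helper153)
-/

set_option autoImplicit false
set_option linter.constructorNameAsVariable false
set_option maxRecDepth 100000

namespace Cfsg.Agent.H153.Pw.Fi23Three

open Cfsg Cfsg.Agent.LThreeFi23 Cfsg.Agent.H838.Fi23 Cfsg.Agent.H838.Three Cfsg.Agent.H78.Pw
open Cfsg.Spor (Fi23)

/-- the power of a word -/
def wpow (w : List Lt) : ℕ → List Lt
  | 0 => []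
  | n + 1 => w ++ wpow w n

theorem elw_wpow (w : List Lt) (n : ℕ) : elw (wpow w n) = elw w ^ n := by
  induction n with
  | zero => rw [pow_zero]; rfl
  | succ n ih => rw [wpow, elw_append, ih, pow_succ']

theorem ord_of {w : List Lt} {n : ℕ} (h : eqM (wpow w n) [] = true) : orderOf (elw w) ∣ n := by
  rw [orderOf_dvd_iff_pow_eq_one, ← elw_wpow, elw_eq h, elw_nil]

theorem pr_of {x r : List Lt} {n m k : ℕ} (hn : n.Coprime k) (hm : m.Coprime k)
    (hx : eqM (wpow x n) [] = true) (hy : eqM (wpow (x.reverse ++ r) m) [] = true) : Pr k (elw r) := by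
  refine ⟨elw x, elw (x.reverse ++ r), ?_, Nat.Coprime.of_dvd_left (ord_of hx) hn,
    Nat.Coprime.of_dvd_left (ord_of hy) hm⟩
  rw [elw_append, elw_reverse]
  group

theorem x0 : eqM (wpow [.f, .j, .e, .g] 5) [] = true := by decide +kernel
theorem y0 : eqM (wpow ([.f, .j, .e, .g].reverse ++ [.z, .j]) 5) [] = true := by decide +kernel
theorem x1 : eqM (wpow [.a, .d, .b, .c] 5) [] = true := by decide +kernel
theorem y1 : eqM (wpow ([.a, .d, .b, .c].reverse ++ y135) 5) [] = true := by decide +kernel
theorem x2 : eqM (wpow [.d, .e, .f, .g] 5) [] = true := by decide +kernel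
theorem y2 : eqM (wpow ([.d, .e, .f, .g].reverse ++ y324) 7) [] = true := by decide +kernel
theorem x3 : eqM (wpow [.a, .b, .j, .g, .f, .d, .z, .c] 5) [] = true := by decide +kernel
theorem y3 : eqM (wpow ([.a, .b, .j, .g, .f, .d, .z, .c].reverse ++ y27) 5) [] = true := by decide +kernel

theorem pr_rep (k : Fin 4) : Pr 6 (rep k) := by
  fin_cases k
  · have h := pr_of (n := 5) (m := 5) (k := 6) (by decide) (by decide) x0 y0
    rw [elw_cons, elw_cons, elw_nil, mul_one] at h
    exact h
  · exact pr_of (by decide) (by decide) x1 y1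
  · exact pr_of (by decide) (by decide) x2 y2
  · exact pr_of (by decide) (by decide) x3 y3

/-- **every element of order 3 of `Fi23` is a product of two elements of order prime to 6** -/
theorem pr_three {x : Fi23} (hx : x ^ 3 = 1) : Pr 6 x := by
  by_cases hne : x = 1
  · rw [hne]; exact Pr.one 6
  obtain ⟨k, g, hg⟩ := classes hx hne
  rcases hg with hg | hg
  · refine Pr.of_conj (x := g) ?_
    rw [hg]
    exact pr_rep k
  · refine Pr.of_conj (x := g) ?_
    rw [hg]
    exact (pr_rep k).inv

end Cfsg.Agent.H153.Pw.Fi23Three
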